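import Cfsg.Agent.Lib.Spor.SchurCert.MatBridge
import Cfsg.Agent.Lib.Spor.SchurCert.LinTwo
import Cfsg.Agent.Lib.Spor.CoZeroMult.Data

/-!
The certificate at the prime 11: a polycyclic sequence of a Sylow subgroup and conjugations killing the tails.
-/

set_option autoImplicit false
set_option maxRecDepth 100000
set_option maxHeartbeats 0

namespace CfsgLib.Spor.CoZeroMult.P11

open CfsgLib.Spor.SchurCert CfsgLib.Spor.SchurCert.MatBridge

/-- The Sylow elements. -/
def sw : List (List ℕ) := [
    [111]]

/-- The conjugating elements. -/
def gw : List (List ℕ) := [
    [112]]

/-- The certificate. -/
def cert : SchurCert.Cert where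
  p := 11
  m := 1
  N := 11
  rules := [
    ([0, 0, 0, 0, 0, 0, 0, 0, 0, 0, 0], [])]
  maps := [
    [([0], [0, 0])]]
  overlaps := []
  fuses := [
    ⟨0, [0, 0, 0, 0, 0, 0, 0, 0, 0, 0, 0], [], [(0, 0)], [], [(0, 0), (0, 0)], []⟩]
  adj := [
    []]
  base := []
  dense := [
    [10]]
  tgt := [
    ([], [(0, 10)])]

/-- Orbits inside the subgroup. -/
def orbits : List (List ℕ × List (ℕ × List ℕ)) := [
    ([], [(65662010817351732327197730212735584339201402261363089121324315857469907678622421830126314126820214212049168, [0, 0]), (65662473995667364646926934658674704406238387025801139335236810418979070292316987477435926585479560812601232, [0, 0, 0, 0, 0]), (65662473995667929328779735723760414708318892876633281871562303859513255399003940055776142385938779238085324, [0, 0, 0, 0, 0, 0, 0, 0, 0, 0]), (75041834898657493712288254837083056279312948745526055665614780914656682411212256650625427160690580988348216, [0, 0, 0, 0, 0, 0, 0, 0, 0]), (75042298076973126025046766847693945376130940690226311504042485025540734312120273435801310859918867895066808, [0, 0, 0, 0, 0, 0, 0, 0]), (75042298076973408365972995274998216054543920321229200171880504766553541918546842857469254207312961770714612, [0, 0, 0, 0, 0, 0, 0]), (75042298088408780567047622482513291350979361262425736079582356186004058631825976456943163581086988325000056,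 [0, 0, 0, 0]), (84422122135407860667062324951797410955158576968390413000250712641325579477460522045929215679499938138526564, [0, 0, 0, 0, 0, 0]), (84422122158278887410137635682519110821377897107295262025291948573426983751910639351394573134958160141076188, [0]), (93802409406464908906912389320439985160211494591028050805391984190853153343508822590680226886641235256359084, [0, 0, 0]), (112562520735956409447851611267016991984580410813578825706846029514451041733003352209561054719109825197491232, [])])]

theorem gw_ok : (gw.all fun s => s.all fun k => Nat.ble 0 k) = true := by decide +kernel

theorem ident_ok : identMat mats 0 cert sw gw = true := by decide +kernel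

theorem sub_ok : subMatOK mats startCode sw [] orbits = true := by decide +kernel

theorem shape_ok : cert.shapeOK = true := by decide +kernel

theorem lin_ok : cert.linOK = true := by decide +kernel

theorem prod_ok : cert.p ^ cert.m ≤ (orbits.map fun e => e.2.length).prod := by decide +kernel

end CfsgLib.Spor.CoZeroMult.P11
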