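import Cfsg.Agent.Lib.Spor.SchurCert.MatBridge
import Cfsg.Agent.Lib.Spor.SchurCert.LinTwo
import Cfsg.Agent.Lib.Spor.CoZeroMult.Data

/-!
The certificate at the prime 13: a polycyclic sequence of a Sylow subgroup and conjugations killing the tails.
-/

set_option autoImplicit false
set_option maxRecDepth 100000
set_option maxHeartbeats 0

namespace CfsgLib.Spor.CoZeroMult.P13

open CfsgLib.Spor.SchurCert CfsgLib.Spor.SchurCert.MatBridge

/-- The Sylow elements. -/
def sw : List (List ℕ) := [
    [113]]

/-- The conjugating elements. -/
def gw : List (List ℕ) := [
    [114]]

/-- The certificate. -/
def cert : SchurCert.Cert where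
  p := 13
  m := 1
  N := 13
  rules := [
    ([0, 0, 0, 0, 0, 0, 0, 0, 0, 0, 0, 0, 0], [])]
  maps := [
    [([0], [0, 0])]]
  overlaps := []
  fuses := [
    ⟨0, [0, 0, 0, 0, 0, 0, 0, 0, 0, 0, 0, 0, 0], [], [(0, 0)], [], [(0, 0), (0, 0)], []⟩]
  adj := [
    []]
  base := []
  dense := [
    [12]]
  tgt := [
    ([], [(0, 12)])]

/-- Orbits inside the subgroup. -/
def orbits : List (List ℕ × List (ℕ × List ℕ)) := [
    ([], [(56282186747481907825033945440033825723263628614112504476345884904523336983708347995102022952042075685830632, [0, 0, 0]), (56282186758917562374005837720658781437537997885894938442343211064353726621604272114146086804603920710927756, [0, 0, 0, 0, 0, 0, 0, 0, 0]), (65662010817351732320226521463815542899650461417644544733511633512409172160975883884536153794534270802355452, [0, 0, 0, 0, 0]), (65662010828787669196182913090610508937378597275759482899206656845008875304437678555198905753234072191901200, [0, 0, 0, 0, 0, 0, 0, 0, 0, 0]), (65662010828787669210124642171744769297518264906251421311778644136195409245176428224070862925198998736058524, [0, 0, 0, 0, 0, 0, 0, 0]), (65662473995667646980882470650650429375913692487936940168211278696066015401932640015873368923659308227919268, [0, 0,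 0, 0, 0, 0, 0, 0, 0, 0, 0]), (65662474007103583877751283793907991655976661467623795269930798512663286855447386805453769616983271433604956, [0, 0]), (75042298065537753823972311747542131895066762759529918703897885892600334523952658266596298254324540690625772, [0, 0, 0, 0]), (84422585325159147521821692592978291343927301299098305561973172840230882697497242518860231197073206279454840, [0, 0, 0, 0, 0, 0, 0, 0, 0, 0, 0, 0]), (84422585325159429869718785562973949901134882632626498480076634846271243112259015389293114791537688233153668, [0]), (84422585336594519722896147697379354601093449336781545970872527956349141323651413611755652722354295502456796, [0, 0, 0, 0, 0, 0]), (93801946228149276587183012771386643222182317607802640306427465924325357439814391952332676227659571402564864, [0, 0, 0, 0, 0, 0, 0]), (112562520735956409447851611267016991984580410813578825706846029514451041733003352209561054719109825197491232, [])])]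

theorem gw_ok : (gw.all fun s => s.all fun k => Nat.ble 0 k) = true := by decide +kernel

theorem ident_ok : identMat mats 0 cert sw gw = true := by decide +kernel

theorem sub_ok : subMatOK mats startCode sw [] orbits = true := by decide +kernel

theorem shape_ok : cert.shapeOK = true := by decide +kernel

theorem lin_ok : cert.linOK = true := by decide +kernel

theorem prod_ok : cert.p ^ cert.m ≤ (orbits.map fun e => e.2.length).prod := by decide +kernel

end CfsgLib.Spor.CoZeroMult.P13
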