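import Cfsg.Agent.Lib.Spor.CoZeroMult.P2

/-!
Conjugation relations agree with their masks.
-/

set_option autoImplicit false
set_option maxRecDepth 100000
set_option maxHeartbeats 0

namespace CfsgLib.Spor.CoZeroMult.P2

open CfsgLib.Spor.SchurCert

theorem fu2_ok : cert.fuChunk masks 40 20 = true := by decide +kernel


end CfsgLib.Spor.CoZeroMult.P2
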