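import Cfsg.Agent.Lib.Spor.CoZeroMult.P2

/-!
Overlap relations agree with their masks.
-/

set_option autoImplicit false
set_option maxRecDepth 100000
set_option maxHeartbeats 0

namespace CfsgLib.Spor.CoZeroMult.P2

open CfsgLib.Spor.SchurCert

theorem ov4_ok : cert.ovChunk masks 80 20 = true := by decide +kernel

theorem ov5_ok : cert.ovChunk masks 100 20 = true := by decide +kernel

theorem ov6_ok : cert.ovChunk masks 120 20 = true := by decide +kernel

theorem ov7_ok : cert.ovChunk masks 140 20 = true := by decide +kernel


end CfsgLib.Spor.CoZeroMult.P2
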