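import Cfsg.Agent.Lib.Spor.CoZeroMult.Table
import Cfsg.Agent.Lib.Spor.CoZeroMult.P2
import Cfsg.Agent.Lib.Spor.CoZeroMult.P2Rows
import Cfsg.Agent.Lib.Spor.CoZeroMult.P2Ov0
import Cfsg.Agent.Lib.Spor.CoZeroMult.P2Ov1
import Cfsg.Agent.Lib.Spor.CoZeroMult.P2Ov2
import Cfsg.Agent.Lib.Spor.CoZeroMult.P2Fu0
import Cfsg.Agent.Lib.Spor.CoZeroMult.P2Fu1
import Cfsg.Agent.Lib.Spor.CoZeroMult.P2Fu2
import Cfsg.Agent.Lib.Spor.CoZeroMult.P3
import Cfsg.Agent.Lib.Spor.CoZeroMult.P5
import Cfsg.Agent.Lib.Spor.CoZeroMult.P7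
import Cfsg.Agent.Lib.Spor.CoZeroMult.P11
import Cfsg.Agent.Lib.Spor.CoZeroMult.P13
import Cfsg.Agent.Lib.Spor.CoZeroMult.P23
import Cfsg.Agent.Lib.Lie.Mult.Sylow
import Cfsg.Agent.Lib.Spor.Leech.Co1Simple

/-!
The automorphism group of the lattice has no proper stem extensions: a certificate at each prime dividing the order.
-/

set_option autoImplicit false
set_option maxRecDepth 20000

namespace CfsgLib.Spor.CoZeroMult

open Cfsg CfsgLib.Spor.SchurCert CfsgLib.Spor.SchurCert.MatBridge CfsgLib.Spor.Leech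

theorem card_top : Nat.card ↥(⊤ : Subgroup Co0) = 8315553613086720000 := by
  rw [Subgroup.card_top, card_co0]

theorem factor_of {p a b : ℕ} (hp : p.Prime) (hb : ¬ p ∣ b) (e : (8315553613086720000 : ℕ) = p ^ a * b) :
    (8315553613086720000 : ℕ).factorization p = a := by
  have h0 : b ≠ 0 := by rintro rfl; simp at e
  rw [e, Nat.factorization_mul (pow_ne_zero _ hp.ne_zero) h0, Nat.factorization_pow, Finsupp.add_apply,
    Finsupp.smul_apply, hp.factorization_self, Nat.factorization_eq_zero_of_not_dvd hb]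
  simp

theorem ker_eq_bot {Γ : Type*} [Group Γ] [Finite Γ] (σ : Γ →* ↥(⊤ : Subgroup Co0)) (hσ : Cfsg.IsStemExtension σ) :
    σ.ker = ⊥ := by
  refine Lie.Mult.ker_eq_bot_of_forall fun ℓ hℓ => ?_
  have : Fact ℓ.Prime := ⟨hℓ⟩
  by_cases h2c : ℓ = 2
  · subst h2c
    haveI : Fact P2.cert.p.Prime := ⟨by rw [show P2.cert.p = 2 from rfl]; norm_num⟩
    obtain ⟨γ, conj, h1, h2, h3, h4⟩ := mat_facts (H := (⊤ : Subgroup Co0)) isMat_elts elts_mem
      (x0 := Spor.leechU) (by rw [start_code.2]; norm_num) start_code.1 P2.cert P2.sw P2.gw P2.orbits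
      (by rw [card_top]; exact factor_of (p := 2) (a := 22) (b := 1982582476875) (by norm_num) (by norm_num) (by norm_num))
      P2.gw_ok P2.ident_ok P2.sub_ok P2.prod_ok P2.shape_ok
    have hbits : P2.cert.bitsOK P2.masks P2.rows = true := by
      refine bitsOK_of_chunks P2.cert (k := 20) (no := 11) (nf := 3) (fun i hi => ?_) (fun i hi => ?_) P2.rows_ok
        (by decide +kernel) (by decide +kernel) (by decide +kernel)
      · interval_cases i
        exacts [P2.ov0_ok, P2.ov1_ok, P2.ov2_ok, P2.ov3_ok, P2.ov4_ok, P2.ov5_ok, P2.ov6_ok, P2.ov7_ok, P2.ov8_ok,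
          P2.ov9_ok, P2.ov10_ok]
      · interval_cases i
        exacts [P2.fu0_ok, P2.fu1_ok, P2.fu2_ok]
    exact not_dvd_ker_mask P2.cert hσ rfl (maskOK_of_bitsOK P2.cert hbits) γ conj h1 h2 P2.shape_ok h3 h4
  by_cases h3c : ℓ = 3
  · subst h3c
    haveI : Fact P3.cert.p.Prime := ⟨by rw [show P3.cert.p = 3 from rfl]; norm_num⟩
    obtain ⟨γ, conj, h1, h2, h3, h4⟩ := mat_facts (H := (⊤ : Subgroup Co0)) isMat_elts elts_mem
      (x0 := Spor.leechU) (by rw [start_code.2]; norm_num) start_code.1 P3.cert P3.sw P3.gw P3.orbits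
      (by rw [card_top]; exact factor_of (p := 3) (a := 9) (b := 422473891840000) (by norm_num) (by norm_num) (by norm_num))
      P3.gw_ok P3.ident_ok P3.sub_ok P3.prod_ok P3.shape_ok
    exact not_dvd_ker P3.cert hσ rfl rfl γ conj h1 h2 P3.shape_ok P3.lin_ok h3 h4
  by_cases h5c : ℓ = 5
  · subst h5c
    haveI : Fact P5.cert.p.Prime := ⟨by rw [show P5.cert.p = 5 from rfl]; norm_num⟩
    obtain ⟨γ, conj, h1, h2, h3, h4⟩ := mat_facts (H := (⊤ : Subgroup Co0)) isMat_elts elts_mem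
      (x0 := Spor.leechU) (by rw [start_code.2]; norm_num) start_code.1 P5.cert P5.sw P5.gw P5.orbits
      (by rw [card_top]; exact factor_of (p := 5) (a := 4) (b := 13304885780938752) (by norm_num) (by norm_num) (by norm_num))
      P5.gw_ok P5.ident_ok P5.sub_ok P5.prod_ok P5.shape_ok
    exact not_dvd_ker P5.cert hσ rfl rfl γ conj h1 h2 P5.shape_ok P5.lin_ok h3 h4
  by_cases h7c : ℓ = 7
  · subst h7c
    haveI : Fact P7.cert.p.Prime := ⟨by rw [show P7.cert.p = 7 from rfl]; norm_num⟩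
    obtain ⟨γ, conj, h1, h2, h3, h4⟩ := mat_facts (H := (⊤ : Subgroup Co0)) isMat_elts elts_mem
      (x0 := Spor.leechU) (by rw [start_code.2]; norm_num) start_code.1 P7.cert P7.sw P7.gw P7.orbits
      (by rw [card_top]; exact factor_of (p := 7) (a := 2) (b := 169705175777280000) (by norm_num) (by norm_num) (by norm_num))
      P7.gw_ok P7.ident_ok P7.sub_ok P7.prod_ok P7.shape_ok
    exact not_dvd_ker P7.cert hσ rfl rfl γ conj h1 h2 P7.shape_ok P7.lin_ok h3 h4
  by_cases h11c : ℓ = 11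
  · subst h11c
    haveI : Fact P11.cert.p.Prime := ⟨by rw [show P11.cert.p = 11 from rfl]; norm_num⟩
    obtain ⟨γ, conj, h1, h2, h3, h4⟩ := mat_facts (H := (⊤ : Subgroup Co0)) isMat_elts elts_mem
      (x0 := Spor.leechU) (by rw [start_code.2]; norm_num) start_code.1 P11.cert P11.sw P11.gw P11.orbits
      (by rw [card_top]; exact factor_of (p := 11) (a := 1) (b := 755959419371520000) (by norm_num) (by norm_num) (by norm_num))
      P11.gw_ok P11.ident_ok P11.sub_ok P11.prod_ok P11.shape_ok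
    exact not_dvd_ker P11.cert hσ rfl rfl γ conj h1 h2 P11.shape_ok P11.lin_ok h3 h4
  by_cases h13c : ℓ = 13
  · subst h13c
    haveI : Fact P13.cert.p.Prime := ⟨by rw [show P13.cert.p = 13 from rfl]; norm_num⟩
    obtain ⟨γ, conj, h1, h2, h3, h4⟩ := mat_facts (H := (⊤ : Subgroup Co0)) isMat_elts elts_mem
      (x0 := Spor.leechU) (by rw [start_code.2]; norm_num) start_code.1 P13.cert P13.sw P13.gw P13.orbits
      (by rw [card_top]; exact factor_of (p := 13) (a := 1) (b := 639657970237440000) (by norm_num) (by norm_num) (by norm_num))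
      P13.gw_ok P13.ident_ok P13.sub_ok P13.prod_ok P13.shape_ok
    exact not_dvd_ker P13.cert hσ rfl rfl γ conj h1 h2 P13.shape_ok P13.lin_ok h3 h4
  by_cases h23c : ℓ = 23
  · subst h23c
    haveI : Fact P23.cert.p.Prime := ⟨by rw [show P23.cert.p = 23 from rfl]; norm_num⟩
    obtain ⟨γ, conj, h1, h2, h3, h4⟩ := mat_facts (H := (⊤ : Subgroup Co0)) isMat_elts elts_mem
      (x0 := Spor.leechU) (by rw [start_code.2]; norm_num) start_code.1 P23.cert P23.sw P23.gw P23.orbits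
      (by rw [card_top]; exact factor_of (p := 23) (a := 1) (b := 361545809264640000) (by norm_num) (by norm_num) (by norm_num))
      P23.gw_ok P23.ident_ok P23.sub_ok P23.prod_ok P23.shape_ok
    exact not_dvd_ker P23.cert hσ rfl rfl γ conj h1 h2 P23.shape_ok P23.lin_ok h3 h4
  refine Lie.Mult.not_dvd_ker_of_cyclic hσ ⊥ ?_
  rw [Subgroup.index_bot, card_top]
  intro hd
  have e : (8315553613086720000 : ℕ) = ([(2, 22), (3, 9), (5, 4), (7, 2), (11, 1), (13, 1), (23, 1)].map fun t : ℕ × ℕ => t.1 ^ t.2).prod := by norm_num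
  rw [e] at hd
  obtain ⟨x, hx, hd⟩ := hℓ.prime.dvd_prod_iff.1 hd
  obtain ⟨t, ht, rfl⟩ := List.mem_map.1 hx
  have hd' := hℓ.dvd_of_dvd_pow hd
  simp only [List.mem_cons, List.not_mem_nil, or_false] at ht
  rcases ht with rfl | rfl | rfl | rfl | rfl | rfl | rfl
  · exact h2c ((Nat.prime_dvd_prime_iff_eq hℓ (by norm_num)).1 hd')
  · exact h3c ((Nat.prime_dvd_prime_iff_eq hℓ (by norm_num)).1 hd')
  · exact h5c ((Nat.prime_dvd_prime_iff_eq hℓ (by norm_num)).1 hd')
  · exact h7c ((Nat.prime_dvd_prime_iff_eq hℓ (by norm_num)).1 hd')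
  · exact h11c ((Nat.prime_dvd_prime_iff_eq hℓ (by norm_num)).1 hd')
  · exact h13c ((Nat.prime_dvd_prime_iff_eq hℓ (by norm_num)).1 hd')
  · exact h23c ((Nat.prime_dvd_prime_iff_eq hℓ (by norm_num)).1 hd')

end CfsgLib.Spor.CoZeroMult
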