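import Cfsg.Agent.Lib.Spor.SchurCert.MatTable
import Cfsg.Agent.Lib.Spor.CoZeroMult.Data
import Cfsg.Agent.Lib.Spor.Leech.Census.Data.Gens
import Cfsg.Prelude.Def_Spor_Conway

/-!
The table as automorphisms of the lattice.
-/

set_option autoImplicit false
set_option maxRecDepth 100000
set_option maxHeartbeats 0

namespace CfsgLib.Spor.CoZeroMult

open Cfsg MulAction CfsgLib.Spor.Leech CfsgLib.Spor.Leech.Census32 CfsgLib.Spor.SchurCert.MatBridge

/-- The automorphisms. -/
noncomputable def elts : List Co0 := extendE ops baseElts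

theorem table_check : (extendM ops baseMats == mats) = true := by decide +kernel

theorem isMat_elts : ∀ k, IsMat (elts.getD k 1) (mats.getD k oneMat) := by
  have h := isMat_extend ops baseElts baseMats (by rfl) isMat_base
  rw [eq_of_beq table_check] at h
  exact h

theorem elts_mem : ∀ k, 0 ≤ k → elts.getD k 1 ∈ (⊤ : Subgroup Co0) := fun _ _ => Subgroup.mem_top _

theorem start_code : enc (Spor.leechU : GolayPt → ℤ) = startCode ∧
    sqNorm (Spor.leechU : GolayPt → ℤ) = 32 := by decide +kernel

end CfsgLib.Spor.CoZeroMult
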